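import Cfsg.Agent.H527.RC.Stmts
import Mathlib.GroupTheory.Perm.Centralizer
import Mathlib.GroupTheory.Perm.Cycle.PossibleTypes

/-!
# S4191 (CCA): a `p`-regular element with centralizer of order prime to `p` in `A_n` (helper333)
-/

set_option autoImplicit false

namespace Cfsg.Agent.H333.RC

open Cfsg.Agent.H527.RC
open scoped Nat

/-- from a cycle type -/
theorem of_type {n p : ℕ} (m : Multiset ℕ) (hm : m.sum ≤ n) (h2 : ∀ a ∈ m, 2 ≤ a)
    (he : Even (m.sum + Multiset.card m))
    (hp : ¬ p ∣ (n - m.sum)! * m.prod * ∏ k ∈ m.toFinset, (m.count k)!) : CC p (alternatingGroup (Fin n)) := by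
  obtain ⟨g, hg⟩ := (Equiv.Perm.exists_with_cycleType_iff (Fin n)).2 ⟨by rw [Fintype.card_fin]; exact hm, h2⟩
  have hs : g ∈ alternatingGroup (Fin n) := by
    rw [Equiv.Perm.mem_alternatingGroup, Equiv.Perm.sign_of_cycleType, hg]
    exact he.neg_one_pow
  have hc : ¬ p ∣ Nat.card (Subgroup.centralizer ({g} : Set (Equiv.Perm (Fin n)))) := by
    rw [Equiv.Perm.nat_card_centralizer, hg, Fintype.card_fin]
    exact hp
  set x : alternatingGroup (Fin n) := ⟨g, hs⟩ with hx
  have hle : (Subgroup.centralizer ({x} : Set (alternatingGroup (Fin n)))).map (alternatingGroup (Fin n)).subtype ≤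
      Subgroup.centralizer ({g} : Set (Equiv.Perm (Fin n))) := by
    rintro _ ⟨y, hy, rfl⟩
    have hy' := Subgroup.mem_centralizer_singleton_iff.1 hy
    rw [Subgroup.mem_centralizer_singleton_iff]
    exact congrArg Subtype.val hy'
  have hdvd : Nat.card (Subgroup.centralizer ({x} : Set (alternatingGroup (Fin n)))) ∣
      Nat.card (Subgroup.centralizer ({g} : Set (Equiv.Perm (Fin n)))) := by
    rw [Nat.card_congr ((Subgroup.centralizer ({x} : Set (alternatingGroup (Fin n)))).equivMapOfInjective _
      (Subgroup.subtype_injective _)).toEquiv]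
    exact Subgroup.card_dvd_of_le hle
  have hcx : ¬ p ∣ Nat.card (Subgroup.centralizer ({x} : Set (alternatingGroup (Fin n)))) := fun h => hc (h.trans hdvd)
  refine ⟨x, fun h => hcx (h.trans ?_), hcx⟩
  have h1 : x ∈ Subgroup.centralizer ({x} : Set (alternatingGroup (Fin n))) :=
    Subgroup.mem_centralizer_singleton_iff.2 rfl
  have h3 := orderOf_dvd_natCard (⟨x, h1⟩ : Subgroup.centralizer ({x} : Set (alternatingGroup (Fin n))))
  rwa [← Subgroup.orderOf_coe] at h3

/-- **(CCA)** -/
theorem cc_alt {n : ℕ} (hn : 5 ≤ n) {p : ℕ} (hp : p.Prime) : CC p (alternatingGroup (Fin n)) := by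
  rcases Nat.even_or_odd n with he | ho
  · by_cases h1 : p ∣ n - 1
    · -- cycle type (n - 2, 2)
      have hp2 : p ≠ 2 := by
        rintro rfl
        obtain ⟨k, hk⟩ := he
        obtain ⟨l, hl⟩ := h1
        omega
      have hn6 : 6 ≤ n := by
        obtain ⟨k, hk⟩ := he
        omega
      have hne : n - 2 ≠ 2 := by omega
      refine of_type {n - 2, 2} ?_ ?_ ?_ ?_
      · simp; omega
      · intro a ha
        simp at ha
        omega
      · obtain ⟨k, hk⟩ := he
        refine ⟨k + 1, ?_⟩
        simp
        omega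
      · have e1 : ({n - 2, 2} : Multiset ℕ).sum = n := by simp; omega
        have e2 : ({n - 2, 2} : Multiset ℕ).prod = (n - 2) * 2 := by simp
        have e3 : ∏ k ∈ ({n - 2, 2} : Multiset ℕ).toFinset, (({n - 2, 2} : Multiset ℕ).count k)! = 1 := by
          refine Finset.prod_eq_one fun k hk => ?_
          have : ({n - 2, 2} : Multiset ℕ).count k ≤ 1 := by
            refine Multiset.nodup_iff_count_le_one.1 ?_ k
            simp [hne]
          interval_cases h : ({n - 2, 2} : Multiset ℕ).count k <;> rfl
        rw [e1, e2, e3, Nat.sub_self, Nat.factorial_zero, one_mul, mul_one]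
        intro h
        rcases hp.dvd_mul.1 h with h | h
        · have h3 : p ∣ (n - 1) - (n - 2) := Nat.dvd_sub h1 h
          rw [show n - 1 - (n - 2) = 1 by omega] at h3
          exact hp.one_lt.ne' (Nat.dvd_one.1 h3)
        · exact hp2 ((Nat.prime_dvd_prime_iff_eq hp Nat.prime_two).1 h)
    · refine of_type {n - 1} ?_ ?_ ?_ ?_
      · simp
      · intro a ha
        simp at ha
        omega
      · obtain ⟨k, hk⟩ := he
        refine ⟨k, ?_⟩
        simp
        omega
      · have e1 : n - (n - 1) = 1 := by omega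
        simpa [e1] using h1
  · by_cases h1 : p ∣ n
    · have hp2 : p ≠ 2 := by
        rintro rfl
        obtain ⟨k, hk⟩ := ho
        obtain ⟨l, hl⟩ := h1
        omega
      refine of_type {n - 2} ?_ ?_ ?_ ?_
      · simp
      · intro a ha
        simp at ha
        omega
      · obtain ⟨k, hk⟩ := ho
        refine ⟨k, ?_⟩
        simp
        omega
      · have e1 : n - (n - 2) = 2 := by omega
        simp only [Multiset.sum_singleton, e1, Nat.factorial_two, Multiset.prod_singleton,
          Multiset.toFinset_singleton, Finset.prod_singleton, Multiset.count_singleton_self, Nat.factorial_one, mul_one]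
        intro h
        rcases hp.dvd_mul.1 h with h | h
        · exact hp2 ((Nat.prime_dvd_prime_iff_eq hp Nat.prime_two).1 h)
        · have h3 : p ∣ n - (n - 2) := Nat.dvd_sub h1 h
          rw [e1] at h3
          exact hp2 ((Nat.prime_dvd_prime_iff_eq hp Nat.prime_two).1 h3)
    · refine of_type {n} ?_ ?_ ?_ ?_
      · simp
      · intro a ha
        simp at ha
        omega
      · obtain ⟨k, hk⟩ := ho
        refine ⟨k + 1, ?_⟩
        simp
        omega
      · simpa using h1

end Cfsg.Agent.H333.RC
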